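import Groth.Agent.Lib.DblCovInv.Algebra
import Groth.Agent.H81.PushLocFree
import Groth.Agent.Lib.SchQuot.Local
import Mathlib.GroupTheory.OrderOfElement

/-!
# The involution of a finite locally free morphism of degree two
-/

noncomputable section

universe u

open CategoryTheory CategoryTheory.Limits AlgebraicGeometry TopologicalSpace Opposite

namespace Groth.Agent.Lib.DblCovInv.Scheme'

variable {X Y : Scheme.{u}} (f : X ⟶ Y)

/-- An affine open over which the functions form a free module of rank two. -/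
def Good (V : Y.Opens) : Prop :=
  IsAffineOpen V ∧ letI := (f.app V).hom.toAlgebra
    Nonempty (Module.Basis (Fin 2) Γ(Y, V) Γ(X, f ⁻¹ᵁ V))

theorem exists_good [IsFinite f] [Flat f] [LocallyOfFinitePresentation f]
    (hrk : ∀ y, f.finrank y = 2) (y : Y) :
    ∃ W : Y.Opens, y ∈ W ∧ ∀ V ≤ W, IsAffineOpen V → Good f V := by
  obtain ⟨W, n, hy, ⟨i⟩⟩ := H81.PushLocFree.isFinLocFree_push f y
  have : n = 2 := (H81.PushLocFree.finrank_eq hy i).symm.trans (hrk y)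
  subst this
  exact ⟨W, hy, fun V hV hVa => ⟨hVa, H81.PushLocFree.nonempty_basis hV i⟩⟩

theorem isBasis_good [IsFinite f] [Flat f] [LocallyOfFinitePresentation f]
    (hrk : ∀ y, f.finrank y = 2) : Opens.IsBasis {V | Good f V} := by
  refine Opens.isBasis_iff_nbhd.mpr fun {U y} hy => ?_
  obtain ⟨W, hyW, hW⟩ := exists_good f hrk y
  obtain ⟨V, hV, hyV, hVU⟩ := exists_isAffineOpen_mem_and_subset (show y ∈ U ⊓ W from ⟨hy, hyW⟩)
  exact ⟨V, hW V (fun z hz => (hVU hz).2) hV, hyV, fun z hz => (hVU hz).1⟩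

variable {f}

/-- The ring involution over a good open. -/
def sig {V : Y.Opens} (h : Good f V) : Γ(X, f ⁻¹ᵁ V) ⟶ Γ(X, f ⁻¹ᵁ V) :=
  letI := (f.app V).hom.toAlgebra
  CommRingCat.ofHom (Algebra.invol h.2.some).toRingHom

theorem app_sig {V : Y.Opens} (h : Good f V) : f.app V ≫ sig h = f.app V := by
  letI := (f.app V).hom.toAlgebra
  ext a
  exact (Algebra.invol h.2.some).commutes a

theorem sig_sig {V : Y.Opens} (h : Good f V) : sig h ≫ sig h = 𝟙 _ := by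
  letI := (f.app V).hom.toAlgebra
  ext a
  exact Algebra.invol_invol h.2.some a

theorem app_injective {V : Y.Opens} (h : Good f V) : Function.Injective (f.app V).hom := by
  letI := (f.app V).hom.toAlgebra
  exact Algebra.algebraMap_injective h.2.some

theorem mem_range {V : Y.Opens} (h : Good f V) (h2 : IsUnit (2 : Γ(Y, V))) (s : Γ(X, f ⁻¹ᵁ V))
    (hs : sig h s = s) : s ∈ Set.range (f.app V).hom := by
  letI := (f.app V).hom.toAlgebra
  exact (Algebra.invol_eq_self_iff h.2.some h2 s).mp hs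

theorem res_sig [IsAffineHom f] {V W : Y.Opens} (hV : Good f V) (hW : Good f W) (r : Γ(Y, V))
    (hr : W = Y.basicOpen r) (hle : W ≤ V) :
    sig hV ≫ X.presheaf.map (homOfLE (show f ⁻¹ᵁ W ≤ f ⁻¹ᵁ V from fun _ hx => hle hx)).op =
      X.presheaf.map (homOfLE (show f ⁻¹ᵁ W ≤ f ⁻¹ᵁ V from fun _ hx => hle hx)).op ≫ sig hW := by
  letI := (f.app V).hom.toAlgebra
  letI := (f.app W).hom.toAlgebra
  letI := (Y.presheaf.map (homOfLE hle).op).hom.toAlgebra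
  letI := (X.presheaf.map
    (homOfLE (show f ⁻¹ᵁ W ≤ f ⁻¹ᵁ V from fun _ hx => hle hx)).op).hom.toAlgebra
  letI := (f.app V ≫ X.presheaf.map
    (homOfLE (show f ⁻¹ᵁ W ≤ f ⁻¹ᵁ V from fun _ hx => hle hx)).op).hom.toAlgebra
  have : IsScalarTower Γ(Y, V) Γ(X, f ⁻¹ᵁ V) Γ(X, f ⁻¹ᵁ W) :=
    IsScalarTower.of_algebraMap_eq fun _ => rfl
  have : IsScalarTower Γ(Y, V) Γ(Y, W) Γ(X, f ⁻¹ᵁ W) := IsScalarTower.of_algebraMap_eq fun a =>
    (congr($(f.naturality (homOfLE hle).op).hom a)).symm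
  have hl : IsLocalization.Away r Γ(Y, W) := hV.1.isLocalization_of_eq_basicOpen r (homOfLE hle) hr
  have hl' : IsLocalization (Algebra.algebraMapSubmonoid Γ(X, f ⁻¹ᵁ V) (Submonoid.powers r))
      Γ(X, f ⁻¹ᵁ W) := by
    rw [Algebra.algebraMapSubmonoid_powers]
    exact (hV.1.preimage f).isLocalization_of_eq_basicOpen _ _
      (by rw [hr, Scheme.preimage_basicOpen]; rfl)
  ext a
  exact (Algebra.invol_localization hV.2.some hW.2.some (Submonoid.powers r) a).symm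

variable [IsAffineHom f]

/-- The involution on a piece. -/
def piece {V : Y.Opens} (h : Good f V) : (f ⁻¹ᵁ V).toScheme ⟶ X :=
  (f ⁻¹ᵁ V).toSpecΓ ≫ Spec.map (sig h) ≫ (h.1.preimage f).fromSpec

theorem piece_comp {V : Y.Opens} (h : Good f V) : piece h ≫ f = (f ⁻¹ᵁ V).ι ≫ f := by
  have hw := (H81.PushLocFree.isPullback_fromSpec f h.1).w
  rw [piece, Category.assoc, Category.assoc, hw, ← Spec.map_comp_assoc, app_sig, ← hw,
    IsAffineOpen.fromSpec, Category.assoc]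
  exact (Category.assoc _ _ _).symm.trans ((congrArg (· ≫ _)
    (IsAffineOpen.toSpecΓ_isoSpec_inv (h.1.preimage f))).trans (Category.id_comp _))

theorem homOfLE_piece {V W : Y.Opens} (hV : Good f V) (hW : Good f W) (r : Γ(Y, V))
    (hr : W = Y.basicOpen r) (hle : W ≤ V) :
    X.homOfLE (show f ⁻¹ᵁ W ≤ f ⁻¹ᵁ V from fun _ hx => hle hx) ≫ piece hV = piece hW := by
  have hle' : f ⁻¹ᵁ W ≤ f ⁻¹ᵁ V := fun _ hx => hle hx
  rw [piece, piece, ← Category.assoc, ← Scheme.Opens.toSpecΓ_SpecMap_presheaf_map _ _ hle',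
    Category.assoc, ← Spec.map_comp_assoc, res_sig hV hW r hr hle, Spec.map_comp_assoc,
    IsAffineOpen.map_fromSpec _ (hW.1.preimage f)]

theorem piece_compat {V V' : Y.Opens} (hV : Good f V) (hV' : Good f V') :
    pullback.fst (f ⁻¹ᵁ V).ι (f ⁻¹ᵁ V').ι ≫ piece hV =
      pullback.snd (f ⁻¹ᵁ V).ι (f ⁻¹ᵁ V').ι ≫ piece hV' := by
  let P := pullback (f ⁻¹ᵁ V).ι (f ⁻¹ᵁ V').ι
  let q : P ⟶ X := pullback.fst _ _ ≫ (f ⁻¹ᵁ V).ι
  have hq : q = pullback.snd _ _ ≫ (f ⁻¹ᵁ V').ι := pullback.condition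
  have hz : ∀ z : P, f (q z) ∈ V ⊓ V' := fun z => by
    constructor
    · rw [show q z = (f ⁻¹ᵁ V).ι (pullback.fst (f ⁻¹ᵁ V).ι (f ⁻¹ᵁ V').ι z) from
        Scheme.Hom.comp_apply _ _ _]
      exact (pullback.fst (f ⁻¹ᵁ V).ι (f ⁻¹ᵁ V').ι z).2
    · rw [show q z = (f ⁻¹ᵁ V').ι (pullback.snd (f ⁻¹ᵁ V).ι (f ⁻¹ᵁ V').ι z) from
        (congrArg (fun k : P ⟶ X => k z) hq).trans (Scheme.Hom.comp_apply _ _ _)]
      exact (pullback.snd (f ⁻¹ᵁ V).ι (f ⁻¹ᵁ V').ι z).2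
  choose r r' hrr hzr using fun z : P => exists_basicOpen_le_affine_inter hV.1 hV'.1 _ (hz z)
  let O : P → P.Opens := fun z => q ⁻¹ᵁ (f ⁻¹ᵁ Y.basicOpen (r z))
  refine Scheme.Cover.hom_ext (P.openCoverOfIsOpenCover O (IsOpenCover.mk ?_)) _ _ fun z => ?_
  · exact eq_top_iff.mpr fun z _ => Opens.mem_iSup.mpr ⟨z, hzr z⟩
  change (O z).ι ≫ _ = (O z).ι ≫ _
  have hW : Good f (Y.basicOpen (r z)) := by
    letI := (f.app V).hom.toAlgebra
    letI := (f.app (Y.basicOpen (r z))).hom.toAlgebra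
    letI := (Y.presheaf.map (homOfLE (Y.basicOpen_le (r z))).op).hom.toAlgebra
    have hle' : f ⁻¹ᵁ Y.basicOpen (r z) ≤ f ⁻¹ᵁ V := fun _ hx => Y.basicOpen_le (r z) hx
    letI := (X.presheaf.map (homOfLE hle').op).hom.toAlgebra
    letI := (f.app V ≫ X.presheaf.map (homOfLE hle').op).hom.toAlgebra
    have : IsScalarTower Γ(Y, V) Γ(X, f ⁻¹ᵁ V) Γ(X, f ⁻¹ᵁ Y.basicOpen (r z)) :=
      IsScalarTower.of_algebraMap_eq fun _ => rfl
    have : IsScalarTower Γ(Y, V) Γ(Y, Y.basicOpen (r z)) Γ(X, f ⁻¹ᵁ Y.basicOpen (r z)) :=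
      IsScalarTower.of_algebraMap_eq fun a =>
        (congr($(f.naturality (homOfLE (Y.basicOpen_le (r z))).op).hom a)).symm
    have hl : IsLocalization.Away (r z) Γ(Y, Y.basicOpen (r z)) :=
      hV.1.isLocalization_of_eq_basicOpen _ (homOfLE (Y.basicOpen_le (r z))) rfl
    have hl' : IsLocalization (Algebra.algebraMapSubmonoid Γ(X, f ⁻¹ᵁ V) (Submonoid.powers (r z)))
        Γ(X, f ⁻¹ᵁ Y.basicOpen (r z)) := by
      rw [Algebra.algebraMapSubmonoid_powers]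
      exact (hV.1.preimage f).isLocalization_of_eq_basicOpen _ _
        (by rw [Scheme.preimage_basicOpen]; rfl)
    exact ⟨hV.1.basicOpen (r z), ⟨hV.2.some.localizationLocalization _ (Submonoid.powers (r z)) _⟩⟩
  let t : (O z).toScheme ⟶ (f ⁻¹ᵁ Y.basicOpen (r z)).toScheme :=
    IsOpenImmersion.lift (f ⁻¹ᵁ Y.basicOpen (r z)).ι ((O z).ι ≫ q) (by
      rintro _ ⟨w, rfl⟩
      rw [Scheme.Opens.range_ι, Scheme.Hom.comp_apply]
      exact w.2)
  have ht : t ≫ (f ⁻¹ᵁ Y.basicOpen (r z)).ι = (O z).ι ≫ q := IsOpenImmersion.lift_fac _ _ _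
  have h1 : (O z).ι ≫ pullback.fst _ _ =
      t ≫ X.homOfLE (fun _ hx => Y.basicOpen_le (r z) hx :
        f ⁻¹ᵁ Y.basicOpen (r z) ≤ f ⁻¹ᵁ V) := by
    rw [← cancel_mono (f ⁻¹ᵁ V).ι, Category.assoc, Category.assoc, Scheme.homOfLE_ι, ht]
  have hle' : f ⁻¹ᵁ Y.basicOpen (r z) ≤ f ⁻¹ᵁ V' := fun _ hx => by
    change f _ ∈ Y.basicOpen (r z) at hx
    rw [hrr z] at hx
    exact Y.basicOpen_le (r' z) hx
  have h2 : (O z).ι ≫ pullback.snd _ _ = t ≫ X.homOfLE hle' := by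
    rw [← cancel_mono (f ⁻¹ᵁ V').ι, Category.assoc, Category.assoc, Scheme.homOfLE_ι, ht, hq]
  rw [reassoc_of% h1, reassoc_of% h2,
    homOfLE_piece hV hW (r z) rfl (Y.basicOpen_le (r z)),
    homOfLE_piece hV' hW (r' z) (hrr z) (by rw [hrr z]; exact Y.basicOpen_le (r' z))]

variable (f) [IsFinite f] [Flat f] [LocallyOfFinitePresentation f]

theorem exists_involution (hrk : ∀ y, f.finrank y = 2) (h2 : IsUnit (2 : Γ(Y, ⊤))) :
    ∃ σ : Aut X, σ.hom ≫ f = f ∧ σ * σ = 1 ∧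
      SGA1.IsQuot (Subgroup.zpowers σ).subtype f := by
  let S := {V : Y.Opens // Good f V}
  let 𝒰 : X.OpenCover := X.openCoverOfIsOpenCover (fun V : S => f ⁻¹ᵁ V.1) (IsOpenCover.mk (by
    refine eq_top_iff.mpr fun x _ => ?_
    obtain ⟨V, hV, hxV, -⟩ :=
      Opens.isBasis_iff_nbhd.mp (isBasis_good f hrk) (Opens.mem_top (f x))
    exact Opens.mem_iSup.mpr ⟨⟨V, hV⟩, hxV⟩))
  let s : X ⟶ X := 𝒰.glueMorphisms (fun V => piece V.2) fun V W => piece_compat V.2 W.2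
  have hs : ∀ V : S, (f ⁻¹ᵁ V.1).ι ≫ s = piece V.2 := fun V => 𝒰.ι_glueMorphisms _ _ V
  have hsf : s ≫ f = f := Scheme.Cover.hom_ext 𝒰 _ _ fun (V : S) => by
    change (f ⁻¹ᵁ (Subtype.val V)).ι ≫ _ = (f ⁻¹ᵁ (Subtype.val V)).ι ≫ _
    rw [reassoc_of% (hs V), piece_comp]
  have hss : s ≫ s = 𝟙 X := Scheme.Cover.hom_ext 𝒰 _ _ fun (V : S) => by
    change (f ⁻¹ᵁ (Subtype.val V)).ι ≫ _ = (f ⁻¹ᵁ (Subtype.val V)).ι ≫ _
    rw [reassoc_of% (hs V), piece, Category.assoc, Category.assoc, Category.comp_id,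
      IsAffineOpen.fromSpec, Category.assoc, hs V, piece,
      IsAffineOpen.isoSpec_inv_toSpecΓ_assoc, ← Spec.map_comp_assoc, sig_sig, Spec.map_id,
      Category.id_comp, IsAffineOpen.fromSpec, IsAffineOpen.toSpecΓ_isoSpec_inv_assoc]
  let σ : Aut X := ⟨s, s, hss, hss⟩
  have hσσ : σ * σ = 1 := Iso.ext hss
  have hmem : ∀ g : Subgroup.zpowers σ, g.1 = 1 ∨ g.1 = σ := fun ⟨g, n, hn⟩ => by
    subst hn
    rcases Int.even_or_odd n with ⟨k, rfl⟩ | ⟨k, rfl⟩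
    · refine .inl ?_
      simp only [← two_mul, zpow_mul, zpow_two, hσσ, one_zpow]
    · refine .inr ?_
      simp only [zpow_add, zpow_mul, zpow_two, hσσ, one_zpow, zpow_one, one_mul]
  refine ⟨σ, hsf, hσσ, ?_⟩
  have hinv : ∀ g : Subgroup.zpowers σ, ((Subgroup.zpowers σ).subtype g).hom ≫ f = f := fun g => by
    rcases hmem g with h | h <;> simp only [Subgroup.coe_subtype, h]
    · exact Category.id_comp f
    · exact hsf
  refine SchQuot.Local.isQuot_of_basis (isBasis_good f hrk) hinv (fun V hV => app_injective hV)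
    fun V hV t ht => mem_range hV ?_ t ?_
  · have := h2.map (Y.presheaf.map (homOfLE (le_top : V ≤ ⊤)).op).hom
    rwa [map_ofNat] at this
  · have h := ht ⟨σ, Subgroup.mem_zpowers σ⟩
    suffices s.appLE (f ⁻¹ᵁ V) (f ⁻¹ᵁ V)
        (fun x hx => by change f (s x) ∈ V; rw [← Scheme.Hom.comp_apply, hsf]; exact hx) = sig hV by
      rw [← this]; exact h
    apply Spec.map_injective
    rw [← cancel_mono (hV.1.preimage f).fromSpec,
      IsAffineOpen.SpecMap_appLE_fromSpec s (hV.1.preimage f) (hV.1.preimage f),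
      IsAffineOpen.fromSpec, Category.assoc, hs ⟨V, hV⟩, piece,
      IsAffineOpen.isoSpec_inv_toSpecΓ_assoc]
    rfl

end Groth.Agent.Lib.DblCovInv.Scheme'
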