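import Mathlib.RingTheory.Trace.Basic
import Mathlib.LinearAlgebra.Matrix.Adjugate
import Mathlib.LinearAlgebra.Matrix.ToLin
import Mathlib.RingTheory.Localization.NormTrace

/-!
# The canonical involution of a free quadratic algebra
-/

universe u v

namespace Groth.Agent.Lib.DblCovInv.Algebra

variable {A : Type u} {B : Type v} [CommRing A] [CommRing B] [Algebra A B]
  (b : Module.Basis (Fin 2) A B)

include b

theorem leftMulMatrix_invol (x : B) :
    Algebra.leftMulMatrix b (algebraMap A B (Algebra.trace A B x) - x) =
      Matrix.adjugate (Algebra.leftMulMatrix b x) := by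
  rw [map_sub, AlgHom.commutes, Algebra.trace_eq_matrix_trace b, Matrix.trace_fin_two,
    Matrix.adjugate_fin_two]
  ext i j
  fin_cases i <;> fin_cases j <;> simp [Matrix.algebraMap_matrix_apply]

theorem trace_mul' (x y : B) :
    algebraMap A B (Algebra.trace A B (x * y)) - x * y =
      (algebraMap A B (Algebra.trace A B x) - x) * (algebraMap A B (Algebra.trace A B y) - y) := by
  refine Algebra.leftMulMatrix_injective b ?_
  rw [leftMulMatrix_invol b, map_mul, map_mul, leftMulMatrix_invol b, leftMulMatrix_invol b,
    ← Matrix.adjugate_mul_distrib, ← map_mul, ← map_mul, mul_comm]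

theorem trace_algebraMap' (a : A) : Algebra.trace A B (algebraMap A B a) = 2 * a := by
  rw [Algebra.trace_algebraMap_of_basis b]
  simp

/-- The involution `x ↦ tr x - x`. -/
noncomputable def invol : B →ₐ[A] B where
  toFun x := algebraMap A B (Algebra.trace A B x) - x
  map_one' := by
    rw [← map_one (algebraMap A B), trace_algebraMap' b, ← map_sub]
    congr 1
    ring
  map_mul' := trace_mul' b
  map_zero' := by simp
  map_add' x y := by simp only [map_add]; ring
  commutes' a := by
    rw [trace_algebraMap' b, ← map_sub]
    congr 1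
    ring

theorem invol_apply (x : B) : invol b x = algebraMap A B (Algebra.trace A B x) - x := rfl

theorem invol_invol (x : B) : invol b (invol b x) = x := by
  have h : Algebra.trace A B (algebraMap A B (Algebra.trace A B x) - x) = Algebra.trace A B x := by
    rw [map_sub, trace_algebraMap' b]; ring
  simp only [invol_apply, h]
  ring

theorem invol_eq_self_iff (h2 : IsUnit (2 : A)) (x : B) :
    invol b x = x ↔ x ∈ Set.range (algebraMap A B) := by
  refine ⟨fun h => ?_, fun ⟨a, ha⟩ => ha ▸ (invol b).commutes a⟩
  obtain ⟨u, hu⟩ := h2.exists_left_inv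
  refine ⟨u * Algebra.trace A B x, ?_⟩
  rw [invol_apply, sub_eq_iff_eq_add, ← two_mul] at h
  rw [map_mul, h, ← map_ofNat (algebraMap A B) 2, ← mul_assoc, ← map_mul, hu, map_one, one_mul]

theorem algebraMap_injective : Function.Injective (algebraMap A B) := by
  intro a a' h
  have := congrArg (fun x => Algebra.leftMulMatrix b x 0 0) h
  simpa [AlgHom.commutes, Matrix.algebraMap_matrix_apply] using this

theorem invol_ne_id [Nontrivial A] (h2 : IsUnit (2 : A)) : invol b ≠ AlgHom.id A B := by
  intro h
  obtain ⟨a₀, h0⟩ := (invol_eq_self_iff b h2 (b 0)).mp (by rw [h]; rfl)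
  obtain ⟨a₁, h1⟩ := (invol_eq_self_iff b h2 (b 1)).mp (by rw [h]; rfl)
  have hz : a₁ • b 0 + (-a₀) • b 1 = 0 := by
    rw [← h0, ← h1, Algebra.smul_def, Algebra.smul_def, map_neg]; ring
  have := Fintype.linearIndependent_iff.mp b.linearIndependent ![a₁, -a₀]
    (by simpa [Fin.sum_univ_two] using hz) 1
  have h00 : a₀ = 0 := by simpa using this
  exact b.ne_zero 0 (by rw [← h0, h00, map_zero])

omit b in
/-- The involution commutes with localization. -/
theorem invol_localization (b : Module.Basis (Fin 2) A B) {A' : Type u} {B' : Type v} [CommRing A']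
    [CommRing B'] [Algebra A' B'] (b' : Module.Basis (Fin 2) A' B') [Algebra A A'] [Algebra B B']
    [Algebra A B'] [IsScalarTower A A' B'] [IsScalarTower A B B'] (M : Submonoid A)
    [IsLocalization M A'] [IsLocalization (Algebra.algebraMapSubmonoid B M) B'] (x : B) :
    invol b' (algebraMap B B' x) = algebraMap B B' (invol b x) := by
  have := Module.Free.of_basis b
  have := Module.Finite.of_basis b
  rw [invol_apply, invol_apply, map_sub, Algebra.trace_localization A M,
    ← IsScalarTower.algebraMap_apply A A' B', ← IsScalarTower.algebraMap_apply A B B']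

end Groth.Agent.Lib.DblCovInv.Algebra
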